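import Mathlib.Data.Nat.Notation

/-!
The certified inner involutions of Fi22 as products of commuting transpositions.
-/

set_option autoImplicit false
set_option maxRecDepth 100000

namespace CfsgLib.Sporadic.FiTransfer.InvolClasses

/-- A case and the points of its transpositions. -/
def decT : List ((ℕ × ℕ × Bool) × List ℕ) := [((0, 0, false), []),
  ((0, 0, true), [0, 6]),
  ((0, 1, false), [0]),
  ((0, 1, true), [6]),
  ((0, 4, false), [40, 154]),
  ((0, 4, true), [3399, 3400]),
  ((0, 5, false), [0, 40, 154]),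
  ((0, 5, true), [0, 3399, 3400]),
  ((0, 8, false), [62, 120]),
  ((0, 8, true), [3280, 3283]),
  ((0, 9, false), [0, 62, 120]),
  ((0, 9, true), [0, 3280, 3283]),
  ((0, 16, false), [47, 155]),
  ((0, 16, true), [1062, 1734]),
  ((0, 17, false), [0, 47, 155]),
  ((0, 17, true), [0, 1062, 1734]),
  ((0, 36, false), [0, 539, 550]),
  ((0, 36, true), [0, 66, 792]),
  ((0, 37, false), [539, 550]),
  ((0, 37, true), [66, 792]),
  ((0, 64, false), [43, 424]),
  ((0, 64, true), [434, 637]),
  ((0, 65, false), [0, 43, 424]),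
  ((0, 65, true), [0, 434, 637]),
  ((0, 128, false), [66, 539]),
  ((0, 128, true), [550, 792]),
  ((0, 129, false), [0, 66, 539]),
  ((0, 129, true), [0, 550, 792]),
  ((0, 320, false), [0, 40, 3399]),
  ((0, 320, true), [0, 154, 3400]),
  ((0, 321, false), [40, 3399]),
  ((0, 321, true), [154, 3400]),
  ((0, 576, false), [0, 62, 3280]),
  ((0, 576, true), [0, 120, 3283]),
  ((0, 577, false), [62, 3280]),
  ((0, 577, true), [120, 3283]),
  ((1, 0, false), [66]),
  ((1, 0, true), [0, 6, 66]),
  ((1, 1, false), [0, 66]),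
  ((1, 1, true), [6, 66]),
  ((1, 4, false), [40, 66, 154]),
  ((1, 4, true), [66, 3399, 3400]),
  ((1, 5, false), [86, 217, 550]),
  ((1, 5, true), [70, 196, 792]),
  ((1, 8, false), [62, 66, 120]),
  ((1, 8, true), [66, 3280, 3283]),
  ((1, 9, false), [113, 173, 550]),
  ((1, 9, true), [96, 156, 792]),
  ((1, 12, false), [66, 88, 89]),
  ((1, 12, true), [66, 3103, 3217]),
  ((1, 13, false), [137, 145, 550]),
  ((1, 13, true), [123, 124, 792]),
  ((1, 320, false), [70, 539, 875]),
  ((1, 320, true), [196, 539, 1543]),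
  ((1, 321, false), [40, 66, 3399]),
  ((1, 321, true), [66, 154, 3400]),
  ((1, 324, false), [86, 539, 1581]),
  ((1, 324, true), [217, 539, 2433]),
  ((1, 325, false), [66, 154, 3399]),
  ((1, 325, true), [40, 66, 3400]),
  ((1, 576, false), [96, 539, 1061]),
  ((1, 576, true), [156, 539, 1467]),
  ((1, 577, false), [62, 66, 3280]),
  ((1, 577, true), [66, 120, 3283]),
  ((1, 584, false), [113, 539, 1778]),
  ((1, 584, true), [173, 539, 2242]),
  ((1, 585, false), [66, 120, 3280]),
  ((1, 585, true), [62, 66, 3283]),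
  ((1, 768, false), [66, 88, 3217]),
  ((1, 768, true), [66, 89, 3103]),
  ((1, 769, false), [124, 539, 1263]),
  ((1, 769, true), [123, 539, 1264]),
  ((1, 780, false), [66, 89, 3217]),
  ((1, 780, true), [66, 88, 3103]),
  ((1, 781, false), [145, 539, 1998]),
  ((1, 781, true), [137, 539, 1999]),
  ((2, 0, false), [1, 4]),
  ((2, 0, true), [2, 3]),
  ((3, 0, false), [1, 4, 66]),
  ((3, 0, true), [2, 3, 66]),
  ((4, 0, false), [39, 76]),
  ((4, 0, true), [53, 60]),
  ((5, 0, false), [39, 66, 76]),
  ((5, 0, true), [53, 60, 66]),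
  ((6, 0, false), [70, 86]),
  ((6, 0, true), [40, 66, 392]),
  ((6, 1, false), [0, 70, 86]),
  ((6, 1, true), [6, 70, 86]),
  ((7, 0, false), [66, 70, 86]),
  ((7, 0, true), [40, 392]),
  ((7, 1, false), [6, 40, 392]),
  ((7, 1, true), [0, 40, 392]),
  ((8, 0, false), [70]),
  ((8, 0, true), [0, 6, 70]),
  ((8, 1, false), [0, 70]),
  ((8, 1, true), [6, 70]),
  ((8, 4, false), [40, 70, 154]),
  ((8, 4, true), [70, 3399, 3400]),
  ((8, 5, false), [196, 539, 550]),
  ((8, 5, true), [66, 196, 792]),
  ((8, 24, false), [70, 93, 95]),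
  ((8, 24, true), [70, 1469, 1470]),
  ((8, 25, false), [196, 874, 1262]),
  ((8, 25, true), [125, 196, 197]),
  ((8, 28, false), [68, 70, 122]),
  ((8, 28, true), [70, 1265, 1667]),
  ((8, 29, false), [196, 1059, 1060]),
  ((8, 29, true), [157, 158, 196]),
  ((8, 128, false), [66, 70, 539]),
  ((8, 128, true), [70, 550, 792]),
  ((8, 129, false), [40, 875, 3399]),
  ((8, 129, true), [154, 875, 3400]),
  ((8, 132, false), [70, 392, 542]),
  ((8, 132, true), [70, 1525, 2364]),
  ((8, 133, false), [66, 196, 550]),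
  ((8, 133, true), [40, 875, 3400]),
  ((8, 512, false), [68, 70, 1265]),
  ((8, 512, true), [70, 122, 1667]),
  ((8, 513, false), [158, 875, 1059]),
  ((8, 513, true), [157, 875, 1060]),
  ((8, 540, false), [70, 122, 1265]),
  ((8, 540, true), [68, 70, 1667]),
  ((8, 541, false), [196, 953, 1198]),
  ((8, 541, true), [196, 945, 1199]),
  ((8, 640, false), [70, 125, 874]),
  ((8, 640, true), [70, 197, 1262]),
  ((8, 641, false), [95, 875, 1469]),
  ((8, 641, true), [93, 875, 1470]),
  ((8, 664, false), [70, 774, 1040]),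
  ((8, 664, true), [70, 1014, 1443]),
  ((8, 665, false), [93, 875, 1469]),
  ((8, 665, true), [95, 875, 1470]),
  ((9, 0, false), [66, 70]),
  ((9, 0, true), [40, 86, 392]),
  ((9, 1, false), [0, 66, 70]),
  ((9, 1, true), [6, 66, 70]),
  ((14, 0, false), [86]),
  ((14, 0, true), [0, 6, 86]),
  ((14, 1, false), [0, 86]),
  ((14, 1, true), [6, 86]),
  ((14, 4, false), [40, 86, 154]),
  ((14, 4, true), [86, 3399, 3400]),
  ((14, 5, false), [66, 217, 550]),
  ((14, 5, true), [217, 539, 792]),
  ((14, 32, false), [66, 217, 539]),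
  ((14, 32, true), [86, 875, 1543]),
  ((14, 33, false), [40, 2433, 3400]),
  ((14, 33, true), [154, 2433, 3399]),
  ((14, 36, false), [196, 875, 1581]),
  ((14, 36, true), [70, 1543, 1581]),
  ((14, 37, false), [86, 539, 550]),
  ((14, 37, true), [40, 2433, 3399]),
  ((14, 88, false), [86, 106, 112]),
  ((14, 88, true), [86, 2244, 2245]),
  ((14, 89, false), [146, 217, 218]),
  ((14, 89, true), [217, 1580, 1997]),
  ((14, 92, false), [81, 86, 136]),
  ((14, 92, true), [86, 2000, 2498]),
  ((14, 93, false), [174, 186, 217]),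
  ((14, 93, true), [217, 1776, 1777]),
  ((14, 520, false), [81, 86, 2000]),
  ((14, 520, true), [86, 136, 2498]),
  ((14, 521, false), [174, 1581, 1777]),
  ((14, 521, true), [186, 1581, 1776]),
  ((14, 552, false), [86, 767, 1394]),
  ((14, 552, true), [86, 1008, 1393]),
  ((14, 553, false), [112, 2244, 2433]),
  ((14, 553, true), [106, 2245, 2433]),
  ((14, 596, false), [86, 136, 2000]),
  ((14, 596, true), [81, 86, 2498]),
  ((14, 597, false), [217, 935, 1200]),
  ((14, 597, true), [217, 862, 1578]),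
  ((14, 624, false), [217, 1049, 1052]),
  ((14, 624, true), [217, 1050, 1127]),
  ((14, 625, false), [86, 146, 1997]),
  ((14, 625, true), [86, 218, 1580]),
  ((15, 0, false), [66, 86]),
  ((15, 0, true), [40, 70, 392]),
  ((15, 1, false), [0, 66, 86]),
  ((15, 1, true), [6, 66, 86]),
  ((16, 0, false), [84, 132]),
  ((16, 0, true), [103, 115]),
  ((17, 0, false), [66, 84, 132]),
  ((17, 0, true), [66, 103, 115]),
  ((18, 0, false), [124, 145]),
  ((18, 0, true), [66, 88, 370]),
  ((18, 1, false), [0, 124, 145]),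
  ((18, 1, true), [6, 124, 145]),
  ((19, 0, false), [66, 124, 145]),
  ((19, 0, true), [88, 370]),
  ((19, 1, false), [6, 88, 370]),
  ((19, 1, true), [0, 88, 370]),
  ((20, 0, false), [62, 473]),
  ((20, 0, true), [66, 96, 113]),
  ((20, 1, false), [0, 62, 473]),
  ((20, 1, true), [6, 62, 473]),
  ((21, 0, false), [62, 66, 473]),
  ((21, 0, true), [96, 113]),
  ((21, 1, false), [6, 96, 113]),
  ((21, 1, true), [0, 96, 113]),
  ((22, 0, false), [66, 75, 83]),
  ((22, 0, true), [58, 66, 102]),
  ((23, 0, false), [75, 83]),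
  ((23, 0, true), [58, 102]),
  ((24, 0, false), [70, 84, 132]),
  ((24, 0, true), [70, 103, 115]),
  ((25, 0, false), [75, 83, 86]),
  ((25, 0, true), [58, 86, 102]),
  ((30, 0, false), [84, 86, 132]),
  ((30, 0, true), [86, 103, 115]),
  ((31, 0, false), [70, 75, 83]),
  ((31, 0, true), [58, 70, 102]),
  ((32, 0, false), [392]),
  ((32, 0, true), [0, 6, 392]),
  ((32, 1, false), [0, 392]),
  ((32, 1, true), [6, 392]),
  ((32, 4, false), [40, 154, 392]),
  ((32, 4, true), [392, 3399, 3400]),
  ((32, 5, false), [70, 1525, 1543]),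
  ((32, 5, true), [86, 2364, 2433]),
  ((32, 32, false), [40, 2364, 3399]),
  ((32, 32, true), [154, 2364, 3400]),
  ((32, 33, false), [66, 542, 550]),
  ((32, 33, true), [86, 1525, 1581]),
  ((32, 36, false), [86, 217, 542]),
  ((32, 36, true), [40, 2364, 3400]),
  ((32, 37, false), [196, 1525, 1543]),
  ((32, 37, true), [66, 392, 792]),
  ((32, 72, false), [338, 369, 392]),
  ((32, 72, true), [392, 1915, 2379]),
  ((32, 73, false), [612, 843, 1525]),
  ((32, 73, true), [944, 1239, 2364]),
  ((32, 76, false), [291, 392, 430]),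
  ((32, 76, true), [392, 2140, 2141]),
  ((32, 77, false), [703, 763, 1525]),
  ((32, 77, true), [1128, 1133, 2364]),
  ((32, 532, false), [474, 1525, 1707]),
  ((32, 532, true), [502, 1525, 1708]),
  ((32, 533, false), [338, 392, 2379]),
  ((32, 533, true), [369, 392, 1915]),
  ((32, 564, false), [542, 546, 1912]),
  ((32, 564, true), [391, 542, 1524]),
  ((32, 565, false), [392, 703, 1444]),
  ((32, 565, true), [291, 2140, 2364]),
  ((32, 604, false), [474, 1708, 2364]),
  ((32, 604, true), [502, 1707, 2364]),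
  ((32, 605, false), [369, 392, 2379]),
  ((32, 605, true), [338, 392, 1915]),
  ((32, 632, false), [392, 546, 1524]),
  ((32, 632, true), [391, 392, 1912]),
  ((32, 633, false), [430, 2140, 2364]),
  ((32, 633, true), [291, 2141, 2364]),
  ((33, 0, false), [66, 392]),
  ((33, 0, true), [40, 70, 86]),
  ((33, 1, false), [0, 66, 392]),
  ((33, 1, true), [6, 66, 392]),
  ((34, 0, false), [1, 4, 392]),
  ((34, 0, true), [2, 3, 392]),
  ((35, 0, false), [40, 53, 60]),
  ((35, 0, true), [39, 40, 76]),
  ((36, 0, false), [39, 76, 392]),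
  ((36, 0, true), [53, 60, 392]),
  ((37, 0, false), [2, 3, 40]),
  ((37, 0, true), [1, 4, 40]),
  ((38, 0, false), [70, 86, 392]),
  ((38, 0, true), [40, 66]),
  ((38, 1, false), [6, 40, 66]),
  ((38, 1, true), [0, 40, 66]),
  ((39, 0, false), [0, 6, 40]),
  ((39, 0, true), [40]),
  ((39, 1, false), [6, 40]),
  ((39, 1, true), [0, 40]),
  ((39, 16, false), [40, 1062, 1734]),
  ((39, 16, true), [40, 47, 155]),
  ((39, 17, false), [43, 154, 637]),
  ((39, 17, true), [59, 2692, 3400]),
  ((39, 32, false), [40, 875, 1543]),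
  ((39, 32, true), [40, 70, 196]),
  ((39, 33, false), [66, 154, 792]),
  ((39, 33, true), [86, 2433, 3400]),
  ((39, 48, false), [40, 676, 689]),
  ((39, 48, true), [40, 92, 636]),
  ((39, 49, false), [97, 154, 246]),
  ((39, 49, true), [154, 708, 1361]),
  ((39, 64, false), [40, 434, 637]),
  ((39, 64, true), [40, 43, 424]),
  ((39, 65, false), [59, 1779, 3400]),
  ((39, 65, true), [47, 1062, 3399]),
  ((39, 80, false), [40, 1779, 2692]),
  ((39, 80, true), [40, 59, 172]),
  ((39, 81, false), [47, 1734, 3399]),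
  ((39, 81, true), [43, 154, 434]),
  ((39, 128, false), [40, 550, 792]),
  ((39, 128, true), [40, 66, 539]),
  ((39, 129, false), [86, 1581, 3400]),
  ((39, 129, true), [70, 875, 3399]),
  ((39, 160, false), [40, 1581, 2433]),
  ((39, 160, true), [40, 86, 217]),
  ((39, 161, false), [70, 1543, 3399]),
  ((39, 161, true), [66, 154, 550]),
  ((39, 192, false), [40, 636, 689]),
  ((39, 192, true), [40, 92, 676]),
  ((39, 193, false), [118, 1396, 3400]),
  ((39, 193, true), [97, 708, 3399]),
  ((39, 240, false), [40, 92, 689]),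
  ((39, 240, true), [40, 636, 676]),
  ((39, 241, false), [118, 154, 274]),
  ((39, 241, true), [154, 1396, 2179]),
  ((40, 0, false), [70, 392]),
  ((40, 0, true), [40, 66, 86]),
  ((40, 1, false), [0, 70, 392]),
  ((40, 1, true), [6, 70, 392]),
  ((41, 0, false), [66, 70, 392]),
  ((41, 0, true), [40, 86]),
  ((41, 1, false), [6, 40, 86]),
  ((41, 1, true), [0, 40, 86]),
  ((46, 0, false), [86, 392]),
  ((46, 0, true), [40, 66, 70]),
  ((46, 1, false), [0, 86, 392]),
  ((46, 1, true), [6, 86, 392]),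
  ((47, 0, false), [66, 86, 392]),
  ((47, 0, true), [40, 70]),
  ((47, 1, false), [6, 40, 70]),
  ((47, 1, true), [0, 40, 70]),
  ((64, 0, false), [88, 124]),
  ((64, 0, true), [66, 145, 370]),
  ((64, 1, false), [0, 88, 124]),
  ((64, 1, true), [6, 88, 124]),
  ((65, 0, false), [66, 88, 124]),
  ((65, 0, true), [145, 370]),
  ((65, 1, false), [6, 145, 370]),
  ((65, 1, true), [0, 145, 370]),
  ((82, 0, false), [88, 145]),
  ((82, 0, true), [66, 124, 370]),
  ((82, 1, false), [0, 88, 145]),
  ((82, 1, true), [6, 88, 145]),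
  ((83, 0, false), [66, 88, 145]),
  ((83, 0, true), [124, 370]),
  ((83, 1, false), [6, 124, 370]),
  ((83, 1, true), [0, 124, 370]),
  ((110, 0, false), [113, 473]),
  ((110, 0, true), [62, 66, 96]),
  ((110, 1, false), [0, 113, 473]),
  ((110, 1, true), [6, 113, 473]),
  ((111, 0, false), [66, 113, 473]),
  ((111, 0, true), [62, 96]),
  ((111, 1, false), [6, 62, 96]),
  ((111, 1, true), [0, 62, 96]),
  ((122, 0, false), [62, 113]),
  ((122, 0, true), [66, 96, 473]),
  ((122, 1, false), [0, 62, 113]),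
  ((122, 1, true), [6, 62, 113]),
  ((123, 0, false), [62, 66, 113]),
  ((123, 0, true), [96, 473]),
  ((123, 1, false), [6, 96, 473]),
  ((123, 1, true), [0, 96, 473])]

end CfsgLib.Sporadic.FiTransfer.InvolClasses
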