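import Cfsg.Agent.Lib.Sporadic.FiTransfer.Involutions.Defs
import Cfsg.Agent.Lib.Sporadic.FiTransfer.TripleCentre.Checks
import Cfsg.Agent.Lib.Sporadic.FiTransfer.InvolClasses.Data

/-!
Kernel checks for the classes of involutions of Fi22.
-/

set_option autoImplicit false
set_option maxRecDepth 100000
set_option maxHeartbeats 0

namespace CfsgLib.Sporadic.FiTransfer.InvolClasses

open CosetCert CosetCert.FiP.OutFi22
open CfsgLib.Sporadic.FiTransfer.PairTwo
open CfsgLib.Sporadic.FiTransfer.PLocal (rel taps agreeK countK)

/-- The number of symmetries in a product is odd. -/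
def oddK : List (List ℕ × Bool) → Bool
  | [] => false
  | w :: t => xor w.2 (oddK t)

/-- The points are distinct and pairwise commuting. -/
noncomputable def cliqueK : List ℕ → Bool
  | [] => true
  | q :: t => t.all (fun r => !Nat.beq q r && rel q r) && cliqueK t

/-- A case is outer, or no involution, or the product of the listed transpositions. -/
noncomputable def caseK (c : ℕ × ℕ × Bool × ℕ × ℕ × (List ℕ × ℕ) × ℕ) : Bool :=
  oddK (Involutions.xL c.1 c.2.1 c.2.2.1) || Nat.beq c.2.2.2.1 0 ||
    decT.any fun d => Nat.beq d.1.1 c.1 && Nat.beq d.1.2.1 c.2.1 && d.1.2.2 == c.2.2.1 &&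
      d.2.all (fun q => Nat.blt q 3510) && Nat.ble d.2.length 3 && cliqueK d.2 &&
      agreeK (imgP (Involutions.xL c.1 c.2.1 c.2.2.1)) (taps d.2)

/-- The standard products as maps of points. -/
noncomputable def stdFun : ℕ → ℕ → ℕ
  | 0 => id
  | 1 => taps [0]
  | 2 => taps [6, 0]
  | _ => TripleCentre.xK

/-- Their numbers of fixed points, and that they square to one. -/
noncomputable def stdK (m : ℕ) : Bool :=
  Nat.beq (countK (fun v => Nat.beq (stdFun m v) v) 3510) ([3510, 694, 182, 54].getD m 0) &&
    agreeK (fun v => stdFun m (stdFun m v)) id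

theorem std_ok : (List.range 4).all stdK = true := by decide +kernel

theorem case0_ok : Involutions.cert0.all caseK = true := by decide +kernel

theorem case1_ok : Involutions.cert1.all caseK = true := by decide +kernel

theorem case2_ok : Involutions.cert2.all caseK = true := by decide +kernel

theorem case3_ok : Involutions.cert3.all caseK = true := by decide +kernel

theorem case4_ok : Involutions.cert4.all caseK = true := by decide +kernel

theorem case5_ok : Involutions.cert5.all caseK = true := by decide +kernel

end CfsgLib.Sporadic.FiTransfer.InvolClasses
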