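import Cfsg.Agent.Lib.Sporadic.FiTransfer.Involutions.Statement
import Cfsg.Agent.Lib.Sporadic.FiTransfer.TripleCentre.Orbits
import Cfsg.Agent.Lib.Sporadic.FiTransfer.InvolClasses.Checks

/-!
The three classes of involutions in groups of type M(22).
-/

set_option autoImplicit false
set_option maxRecDepth 100000

open Cfsg.Spor

namespace CfsgLib.Sporadic.FiTransfer.InvolClasses

open CfsgLib.Sporadic.CosetCert
open CfsgLib.Sporadic.CosetCert.FiP
open CfsgLib.Sporadic.CosetCert.FiP.OutFi22
open CfsgLib.Sporadic.CosetCert.FiData (table)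
open CfsgLib.Sporadic.FiTransfer.PLocal (pnt pnt_val pnt_coe Img img_one img_dp img_dpProd dpProd taps
  countK_eq commute_dp_iff classTr_eq agreeK rel rel_iff)
open CfsgLib.Sporadic.FiTransfer.PairTwo (prodA imgP prodA_img autPerm autPerm_conj autPerm_spec autEl sym_sq)
open CfsgLib.Sporadic.FiTransfer.TripleCentre (Near near_map near_symm near_trans triple_trans hom_base
  hom_cancel xK)

attribute [local irreducible] PTab.img symAt

/-- A product of at most three distinct pairwise commuting transpositions. -/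
def Form (g : Fi22) : Prop :=
  ∃ l : List (Fin table.N), l.Pairwise Near ∧ l.length ≤ 3 ∧ (l.map dp).prod = g

theorem Form.map (α : MulAut Fi22) {g : Fi22} (h : Form g) : Form (α g) := by
  obtain ⟨l, hp, hl, rfl⟩ := h
  refine ⟨l.map (autPerm α), List.pairwise_map.2 (hp.imp ?_), by simpa using hl, ?_⟩
  · intro a b hab
    refine ⟨fun e => hab.1 ((autPerm α).injective e), (commute_dp_iff _ _).1 ?_⟩
    rw [← autPerm_spec, ← autPerm_spec]
    exact ((commute_dp_iff _ _).2 hab.2).map α.toMonoidHom
  · rw [map_list_prod, List.map_map, List.map_map]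
    exact congrArg List.prod (List.map_congr_left fun a _ => (autPerm_spec α a).symm)

theorem sym_conj (g : Fi22) : sym * MulAut.conj g = MulAut.conj (sym g) * sym := by
  refine MulEquiv.ext fun z => ?_
  show sym (g * z * g⁻¹) = sym g * sym z * (sym g)⁻¹
  rw [map_mul, map_mul, map_inv]

theorem parity (L : List (List ℕ × Bool)) :
    ∃ g : Fi22, prodA L = MulAut.conj g * (bif oddK L then sym else 1) := by
  induction L with
  | nil => exact ⟨1, by simp [prodA, oddK]⟩
  | cons w t ih =>
    obtain ⟨g, hg⟩ := ih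
    obtain ⟨L, f⟩ := w
    rw [prodA, hg, autEl, oddK]
    cases oddK t <;> cases f <;>
      simp only [cond_true, cond_false, Bool.xor_true, Bool.xor_false, Bool.not_true, Bool.not_false, mul_one]
    · exact ⟨g * el L, (map_mul _ _ _).symm⟩
    · exact ⟨g * el L, by rw [map_mul, mul_assoc]⟩
    · exact ⟨g * sym (el L), by rw [map_mul, mul_assoc, sym_conj, mul_assoc]⟩
    · exact ⟨g * sym (el L), by
        rw [map_mul, mul_assoc, ← mul_assoc sym, sym_conj, mul_assoc, sym_sq, mul_one]⟩

theorem cert_form (c : ℕ × ℕ × Bool × ℕ × ℕ × (List ℕ × ℕ) × ℕ) (hc : c ∈ Involutions.certAll) :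
    let x := PairTwo.jp c.2.2.1 * Involutions.qv c.2.1 * Involutions.uA c.1
    x * x = 1 → ∀ g, x = MulAut.conj g → Form g := by
  intro x hx g hg
  have hK : caseK c = true := by
    simp only [Involutions.certAll, List.mem_append] at hc
    rcases hc with ((((h | h) | h) | h) | h) | h
    exacts [List.all_eq_true.1 case0_ok c h, List.all_eq_true.1 case1_ok c h,
      List.all_eq_true.1 case2_ok c h, List.all_eq_true.1 case3_ok c h,
      List.all_eq_true.1 case4_ok c h, List.all_eq_true.1 case5_ok c h]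
  have hC := Involutions.cert_spec hc
  obtain ⟨a, r, b, k, fx, h, p⟩ := c
  have hlt : ∀ w ∈ Involutions.xL a r b, ∀ y ∈ w.1, y < 9 :=
    Involutions.app_lt (Involutions.app_lt (Involutions.uL_lt a) (Involutions.qL_lt r)) (Involutions.jL_lt b)
  have hX : prodA (Involutions.xL a r b) = x := by
    rw [Involutions.xL, Involutions.prodA_append, Involutions.prodA_append, Involutions.prodA_jL, ← mul_assoc]
    rfl
  simp only [caseK, Bool.or_eq_true] at hK
  rcases hK with (hK | hK) | hK
  · exfalso
    obtain ⟨g', h'⟩ := parity (Involutions.xL a r b)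
    rw [hK, cond_true, hX, hg] at h'
    refine sym_not_inner ⟨g'⁻¹ * g, ?_⟩
    rw [map_mul, map_inv, h', inv_mul_cancel_left]
  · exfalso
    simp only [Involutions.certK, hK, cond_true, Bool.and_eq_true, Bool.not_eq_true'] at hC
    have hf : fx < table.N := Nat.le_of_ble_eq_true hC.1
    have e : ((autPerm (x * x) ⟨fx, hf⟩ : Fin table.N) : ℕ) = fx := by
      rw [hx, map_one, Equiv.Perm.one_apply]
    rw [map_mul, Equiv.Perm.mul_apply, ← hX, prodA_img hlt, prodA_img hlt] at e
    rw [Nat.beq_eq.mpr e] at hC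
    exact Bool.noConfusion hC.2
  · obtain ⟨⟨key, qs⟩, -, hd⟩ := List.any_eq_true.1 hK
    simp only [Bool.and_eq_true, List.all_eq_true, Nat.blt_eq, Nat.ble_eq] at hd
    obtain ⟨⟨⟨⟨-, hq⟩, hl⟩, hcl⟩, hag⟩ := hd
    have himg : Img g (imgP (Involutions.xL a r b)) := fun u => by
      rw [← prodA_img hlt, hX, hg, autPerm_conj]
    have hgq : g = dpProd qs := PLocal.eq_of_agree himg (img_dpProd qs hq) hag
    refine ⟨qs.reverse.map pnt, ?_, by simpa using hl, ?_⟩
    · rw [List.map_reverse, List.pairwise_reverse, List.pairwise_map]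
      refine List.Pairwise.imp_of_mem ?_ (clique_pairwise qs hcl)
      intro u v hu hv huv
      obtain ⟨h1, h2⟩ := huv
      refine near_symm ⟨fun e => h1 ?_, (rel_iff _ _).1 ?_⟩
      · have := congrArg Fin.val e
        rwa [pnt_val (hq u hu), pnt_val (hq v hv)] at this
      · rw [pnt_val (hq u hu), pnt_val (hq v hv)]; exact h2
    · rw [hgq, List.map_map]
      exact (dpProd_eq qs).symm
where
  clique_pairwise : ∀ qs : List ℕ, cliqueK qs = true → qs.Pairwise fun u v => u ≠ v ∧ rel u v = true := by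
    intro qs
    induction qs with
    | nil => intro _; exact List.Pairwise.nil
    | cons q t ih =>
      intro h
      simp only [cliqueK, Bool.and_eq_true, List.all_eq_true, Bool.not_eq_true', ← Bool.not_eq_true,
        Nat.beq_eq] at h
      exact List.pairwise_cons.2 ⟨fun v hv => h.1 v hv, ih h.2⟩
  dpProd_eq : ∀ qs : List ℕ, dpProd qs = (qs.reverse.map (dp ∘ pnt)).prod := by
    intro qs
    induction qs with
    | nil => rfl
    | cons q t ih => simp [dpProd, ih]

/-- Every involution is a product of at most three commuting transpositions. -/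
theorem form_of_invol {g : Fi22} (hg : g * g = 1) : Form g := by
  let P : MulAut Fi22 → Prop := fun φ => φ * φ = 1 → ∀ h, φ = MulAut.conj h → Form h
  have hP : P (MulAut.conj g) := Involutions.invol_induction (P := P) ?_ cert_form
    (by rw [← map_mul, hg, map_one])
  · exact hP (by rw [← map_mul, hg, map_one]) g rfl
  intro α x hx h2 h hh
  have hxx : x * x = 1 := by
    calc x * x = α⁻¹ * (α * x * α⁻¹ * (α * x * α⁻¹)) * α := by group
      _ = 1 := by rw [h2]; group
  have hc : x = MulAut.conj (α⁻¹ h) := by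
    have e : x = α⁻¹ * MulAut.conj h * α := by rw [← hh]; group
    rw [e]
    refine MulEquiv.ext fun z => ?_
    show α.symm (h * α z * h⁻¹) = α.symm h * z * (α.symm h)⁻¹
    rw [map_mul, map_mul, map_inv, MulEquiv.symm_apply_apply]
  have := (hx hxx _ hc).map α
  rwa [← MulAut.mul_apply, mul_inv_cancel] at this

/-- The standard products. -/
noncomputable def stdEl : ℕ → Fi22
  | 0 => 1
  | 1 => dp pt
  | 2 => dp pt * dp (pnt 6)
  | _ => dp pt * dp (pnt 6) * dp (pnt 40)

theorem img_stdEl (m : ℕ) : Img (stdEl m) (stdFun m) := by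
  have h0 : ((pt : Fin table.N) : ℕ) = 0 := rfl
  match m with
  | 0 => exact img_one
  | 1 => exact fun u => by rw [show stdEl 1 = dp pt from rfl, img_dp, h0]; rfl
  | 2 =>
    intro u
    rw [show stdEl 2 = dp pt * dp (pnt 6) from rfl, ((img_dp pt).mul (img_dp (pnt 6))) u, h0,
      pnt_val (by norm_num)]
    rfl
  | n + 3 =>
    intro u
    rw [show stdEl (n + 3) = dp pt * dp (pnt 6) * dp (pnt 40) from rfl,
      (((img_dp pt).mul (img_dp (pnt 6))).mul (img_dp (pnt 40))) u, h0, pnt_val (by norm_num),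
      pnt_val (by norm_num)]
    rfl

/-- A list of commuting transpositions has the product conjugate to the standard one. -/
theorem normal_form {l : List (Fin table.N)} (hp : l.Pairwise Near) (hl : l.length ≤ 3) :
    ∃ g, g * stdEl l.length * g⁻¹ = (l.map dp).prod := by
  match l, hp, hl with
  | [], _, _ => exact ⟨1, by simp [stdEl]⟩
  | [p], _, _ =>
    obtain ⟨g, hg⟩ := transitive p
    exact ⟨g, by simp [stdEl, conj_dp, hg]⟩
  | [p, q], hp, _ =>
    simp only [List.pairwise_cons, List.mem_singleton, forall_eq] at hp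
    obtain ⟨c, hc⟩ := transitive p
    obtain ⟨k, hk0, hk6⟩ := near_trans (hom_base hc hp.1)
    refine ⟨c * k, ?_⟩
    have h1 : hom (c * k) pt = p := by rw [map_mul, Equiv.Perm.mul_apply, hk0, hc]
    have h2 : hom (c * k) (pnt 6) = q := by rw [map_mul, Equiv.Perm.mul_apply, hk6, hom_cancel]
    simp only [stdEl, List.length_cons, List.length_nil, List.map_cons, List.map_nil, List.prod_cons,
      List.prod_nil, mul_one]
    rw [← h1, ← h2, ← conj_dp, ← conj_dp]
    group
  | [p, q, r], hp, _ =>
    simp only [List.pairwise_cons, List.mem_cons, List.not_mem_nil, or_false, forall_eq_or_imp,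
      forall_eq] at hp
    obtain ⟨g, g0, g6, g40⟩ := triple_trans hp.1.1 hp.1.2 hp.2.1
    refine ⟨g, ?_⟩
    simp only [stdEl, List.length_cons, List.length_nil, List.map_cons, List.map_nil, List.prod_cons,
      List.prod_nil, mul_one]
    rw [← g0, ← g6, ← g40, ← conj_dp, ← conj_dp, ← conj_dp]
    group
  | _ :: _ :: _ :: _ :: _, _, hl => simp only [List.length_cons] at hl; omega

/-- The number of fixed points. -/
noncomputable def fixCount (g : Fi22) : ℕ := Nat.card {u : Fin table.N // hom g u = u}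

theorem fixCount_conj (c g : Fi22) : fixCount (c * g * c⁻¹) = fixCount g := by
  refine Nat.card_congr (Equiv.subtypeEquiv (hom c).symm fun u => ?_)
  rw [map_mul, map_mul, map_inv, Equiv.Perm.mul_apply, Equiv.Perm.mul_apply, Equiv.Perm.inv_def,
    ← Equiv.eq_symm_apply]

theorem std_facts {m : ℕ} (hm : m ≤ 3) :
    fixCount (stdEl m) = [3510, 694, 182, 54].getD m 0 ∧ stdEl m * stdEl m = 1 := by
  have h := List.all_eq_true.1 std_ok m (List.mem_range.2 (by omega))
  rw [stdK, Bool.and_eq_true, Nat.beq_eq] at h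
  refine ⟨?_, PLocal.eq_of_agree ((img_stdEl m).mul (img_stdEl m)) img_one h.2⟩
  classical
  rw [← h.1, countK_eq, fixCount, Nat.card_eq_fintype_card, Fintype.card_subtype]
  refine Finset.card_bij (fun u _ => (u : ℕ)) (fun u hu => ?_) (fun a _ b _ e => Fin.ext e) fun i hi => ?_
  · rw [Finset.mem_filter, Fin.ext_iff, img_stdEl] at hu
    exact Finset.mem_filter.2 ⟨Finset.mem_range.2 u.2, Nat.beq_eq.mpr hu.2⟩
  · rw [Finset.mem_filter, Finset.mem_range, Nat.beq_eq] at hi
    exact ⟨⟨i, hi.1⟩, Finset.mem_filter.2 ⟨Finset.mem_univ _, by rw [Fin.ext_iff, img_stdEl]; exact hi.2⟩, rfl⟩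

theorem counts_distinct : ∀ m ≤ 3, ∀ k ≤ 3,
    [3510, 694, 182, 54].getD m 0 = [3510, 694, 182, 54].getD k 0 → m = k := by decide

section Transfer

variable {G : Type*} [Group G] {D : Set G}

/-- A product of `m` distinct pairwise commuting members of `D`. -/
def IsProd (D : Set G) (m : ℕ) (x : G) : Prop :=
  ∃ l : List G, l.Nodup ∧ l.length = m ∧ (∀ a ∈ l, a ∈ D) ∧ (∀ a ∈ l, ∀ b ∈ l, Commute a b) ∧ l.prod = x

theorem exists_points (l : List Fi22) (h : ∀ a ∈ l, a ∈ classTr) :
    ∃ ps : List (Fin table.N), ps.map dp = l := by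
  induction l with
  | nil => exact ⟨[], rfl⟩
  | cons a t ih =>
    obtain ⟨ps, hps⟩ := ih fun b hb => h b (List.mem_cons_of_mem _ hb)
    have ha := h a List.mem_cons_self
    rw [classTr_eq] at ha
    obtain ⟨p, rfl⟩ := ha
    exact ⟨p :: ps, by rw [List.map_cons, hps]⟩

theorem prod_std {e : G ≃* Fi22} (he : e '' D = classTr) {m : ℕ} (hm : m ≤ 3) {x : G}
    (hx : IsProd D m x) : ∃ c, c * stdEl m * c⁻¹ = e x := by
  obtain ⟨l, hn, rfl, hD, hc, rfl⟩ := hx
  obtain ⟨ps, hps⟩ := exists_points (l.map e) fun a ha => by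
    obtain ⟨b, hb, rfl⟩ := List.mem_map.1 ha
    exact (mem_iff_of_image e he).1 (hD b hb)
  have hlen : ps.length = l.length := by simpa using congrArg List.length hps
  have hn' : ps.Nodup := List.Nodup.of_map dp (by rw [hps]; exact hn.map e.injective)
  have hp : ps.Pairwise Near := by
    refine List.Pairwise.imp_of_mem ?_ hn'
    intro u v hu hv huv
    refine ⟨huv, (commute_dp_iff _ _).1 ?_⟩
    obtain ⟨a, ha, ea⟩ := List.mem_map.1 (hps ▸ List.mem_map_of_mem hu : dp u ∈ l.map e)
    obtain ⟨b, hb, eb⟩ := List.mem_map.1 (hps ▸ List.mem_map_of_mem hv : dp v ∈ l.map e)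
    rw [← ea, ← eb]
    exact (commute_iff e).2 (hc a ha b hb)
  obtain ⟨c, h⟩ := normal_form hp (hlen ▸ hm)
  exact ⟨c, by rw [← hlen, h, hps, map_list_prod]⟩

/-- A group of type M(22) has three classes of involutions. -/
theorem involution_classes (h : ModelIso G D) :
    (∀ x : G, orderOf x = 2 → ∃ m : ℕ, 1 ≤ m ∧ m ≤ 3 ∧ IsProd D m x) ∧
    (∀ m : ℕ, 1 ≤ m → m ≤ 3 → (∃ x : G, orderOf x = 2 ∧ IsProd D m x) ∧
      ∀ x y : G, IsProd D m x → IsProd D m y → IsConj x y) ∧
    ∀ (m m' : ℕ) (x : G), 1 ≤ m → m ≤ 3 → 1 ≤ m' → m' ≤ 3 → IsProd D m x → IsProd D m' x → m = m' := by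
  obtain ⟨e, he⟩ := h
  have count : ∀ {m : ℕ} {x : G}, m ≤ 3 → IsProd D m x →
      fixCount (e x) = [3510, 694, 182, 54].getD m 0 := fun {m x} hm hx => by
    obtain ⟨c, hc⟩ := prod_std he hm hx
    rw [← hc, fixCount_conj, (std_facts hm).1]
  have build : ∀ ps : List (Fin table.N), ps.Pairwise Near →
      IsProd D ps.length (e.symm (ps.map dp).prod) := fun ps hp => by
    refine ⟨ps.map fun p => e.symm (dp p), ?_, List.length_map .., ?_, ?_, ?_⟩
    · exact List.Nodup.map (e.symm.injective.comp dp_injective) (List.Pairwise.imp (fun h => h.1) hp)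
    · intro a ha
      obtain ⟨p, -, rfl⟩ := List.mem_map.1 ha
      rw [mem_iff_of_image e he, e.apply_symm_apply, classTr_eq]
      exact ⟨p, rfl⟩
    · have hall : ∀ p ∈ ps, ∀ q ∈ ps, Commute (dp p) (dp q) := fun p hp' q hq =>
        haveI : Std.Symm fun u v : Fin table.N => Commute (dp u) (dp v) := ⟨fun _ _ h => h.symm⟩
        List.Pairwise.forall_of_forall (R := fun u v => Commute (dp u) (dp v))
          (fun u _ => Commute.refl _) (hp.imp fun h => (commute_dp_iff _ _).2 h.2) hp' hq
      intro a ha b hb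
      obtain ⟨p, hp', rfl⟩ := List.mem_map.1 ha
      obtain ⟨q, hq, rfl⟩ := List.mem_map.1 hb
      exact (hall p hp' q hq).map e.symm.toMonoidHom
    · rw [map_list_prod, List.map_map]; rfl
  refine ⟨fun x hx => ?_, fun m h1 h3 => ⟨?_, fun x y hx hy => ?_⟩, fun m m' x _ hm _ hm' hx hx' =>
    counts_distinct m hm m' hm' ((count hm hx).symm.trans (count hm' hx'))⟩
  · obtain ⟨ps, hp, hl, hprod⟩ := form_of_invol (g := e x) (by
      rw [← map_mul, ← pow_two, ← hx, pow_orderOf_eq_one, map_one])
    refine ⟨ps.length, ?_, hl, ?_⟩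
    · rcases ps with _ | ⟨p, t⟩
      · rw [List.map_nil, List.prod_nil] at hprod
        rw [e.map_eq_one_iff.1 hprod.symm, orderOf_one] at hx
        exact absurd hx (by norm_num)
      · simp
    · simpa [hprod] using build ps hp
  · obtain ⟨n1, n2, n3⟩ := TripleCentre.base_near
    have hb := build ([pt, pnt 6, pnt 40].take m) (List.Pairwise.sublist (List.take_sublist _ _) (by
      simp [List.pairwise_cons, n1, n2, n3]))
    rw [List.length_take, show min m [pt, pnt 6, pnt 40].length = m by simp; omega] at hb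
    refine ⟨_, ?_, hb⟩
    obtain ⟨c, hc⟩ := prod_std he h3 hb
    have : Fact (Nat.Prime 2) := ⟨Nat.prime_two⟩
    rw [← e.orderOf_eq, ← hc, ← MulAut.conj_apply, MulEquiv.orderOf_eq]
    refine orderOf_eq_prime (by rw [pow_two]; exact (std_facts h3).2) fun e1 => ?_
    have := counts_distinct 0 (by omega) m h3 (by
      rw [← (std_facts h3).1, e1, ← (std_facts (m := 0) (by omega)).1]; rfl)
    omega
  · obtain ⟨c, hc⟩ := prod_std he h3 hx
    obtain ⟨d, hd⟩ := prod_std he h3 hy
    have : IsConj (e x) (e y) := by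
      rw [← hc, ← hd, isConj_iff]
      exact ⟨d * c⁻¹, by group⟩
    simpa using e.symm.toMonoidHom.map_isConj this

end Transfer

end CfsgLib.Sporadic.FiTransfer.InvolClasses
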